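import Groth.Prelude.Def_BlowUp2
import Mathlib.AlgebraicGeometry.Noetherian
import Mathlib.RingTheory.KrullDimension.NonZeroDivisors
import Mathlib.RingTheory.Ideal.KrullsHeightTheorem

/-!
Proper intersection with an effective Cartier divisor.
-/

set_option autoImplicit false
set_option linter.style.haveILetI false

noncomputable section

universe u

open CategoryTheory AlgebraicGeometry

namespace Groth.Agent.Proper99

variable {X Z : Scheme.{u}}

theorem one_le_dim (I : X.IdealSheafData) (hY : BlowUp.IsEffCartierIdeal I) (y : X)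
    (hy : y ∈ (I.support : Set X)) : 1 ≤ ringKrullDim (X.presheaf.stalk y) := by
  obtain ⟨U, hU, f, hf, hI⟩ := hY y
  let R := Γ(X, U.1)
  let g : R →+* X.presheaf.stalk y := (X.presheaf.germ U.1 y hU).hom
  letI : Algebra R (X.presheaf.stalk y) := g.toAlgebra
  haveI : IsLocalization.AtPrime (X.presheaf.stalk y) (U.2.primeIdealOf ⟨y, hU⟩).asIdeal :=
    U.2.isLocalization_stalk ⟨y, hU⟩
  have h1 : g f ∈ nonZeroDivisors (X.presheaf.stalk y) :=
    IsLocalization.map_nonZeroDivisors_le (U.2.primeIdealOf ⟨y, hU⟩).asIdeal.primeCompl _ ⟨f, hf, rfl⟩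
  have h2 : ¬ IsUnit (g f) := by
    intro hu
    have hy' : y ∈ X.basicOpen f := (X.mem_basicOpen f y hU).mpr hu
    have := (Set.ext_iff.mp (I.coe_support_inter U) y).mp ⟨hy, hU⟩
    rw [hI, X.zeroLocus_span, Scheme.zeroLocus_singleton] at this
    exact this.1 hy'
  refine le_trans ?_ (ringKrullDim_quotient_succ_le_of_nonZeroDivisor h1)
  haveI : Nontrivial (X.presheaf.stalk y ⧸ Ideal.span {g f}) :=
    Ideal.Quotient.nontrivial_iff.mpr fun h => h2 (Ideal.span_singleton_eq_top.mp h)
  simpa using add_le_add_left (ringKrullDim_nonneg_of_nontrivial (R := X.presheaf.stalk y ⧸ Ideal.span {g f})) 1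

theorem not_subset [IsLocallyNoetherian X] (I : X.IdealSheafData) (hY : BlowUp.IsEffCartierIdeal I)
    (i : Z ⟶ X) [IsClosedImmersion i] [IsIntegral Z]
    (hprop : ∀ ζ : X, ζ ∈ (I.support : Set X) ∩ Set.range i.base →
        (∀ ζ' : X, ζ' ∈ (I.support : Set X) ∩ Set.range i.base → ζ' ⤳ ζ → ζ' = ζ) →
        ringKrullDim (X.presheaf.stalk ζ) =
          (⨅ y : (I.support : Set X), ringKrullDim (X.presheaf.stalk y.1)) +
            ringKrullDim (X.presheaf.stalk (i (genericPoint Z)))) :
    ¬ Set.range i.base ⊆ (I.support : Set X) := by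
  intro hsub
  have h := hprop (i (genericPoint Z)) ⟨hsub ⟨_, rfl⟩, _, rfl⟩ (by
    rintro z ⟨-, w, rfl⟩ hz
    exact (hz.antisymm ((genericPoint_specializes w).map i.continuous)).eq)
  have h1 : (1 : WithBot ℕ∞) ≤ ⨅ y : (I.support : Set X), ringKrullDim (X.presheaf.stalk y.1) :=
    le_iInf fun y => one_le_dim I hY y.1 y.2
  have h2 := add_le_add_right h1 (ringKrullDim (X.presheaf.stalk (i (genericPoint Z))))
  rw [add_comm (ringKrullDim _) (⨅ y : (I.support : Set X), _), ← h] at h2
  haveI : IsNoetherianRing (X.presheaf.stalk (i (genericPoint Z))) := inferInstance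
  obtain ⟨n, hn⟩ : ∃ n : ℕ, ringKrullDim (X.presheaf.stalk (i (genericPoint Z))) = n := by
    have hb : ringKrullDim (X.presheaf.stalk (i (genericPoint Z))) ≠ ⊥ := ringKrullDim_ne_bot
    have ht : ringKrullDim (X.presheaf.stalk (i (genericPoint Z))) < ⊤ := ringKrullDim_lt_top
    revert hb ht
    generalize ringKrullDim (X.presheaf.stalk (i (genericPoint Z))) = a
    intro hb ht
    induction a with
    | bot => simp at hb
    | coe a =>
      induction a with
      | top => simp at ht
      | coe n => exact ⟨n, rfl⟩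
  rw [hn] at h2
  norm_cast at h2
  omega

end Groth.Agent.Proper99
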